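import Mathlib
import Cfsg.Agent.H852.USixElts
import Cfsg.Agent.Prune
set_option linter.all false
open scoped Cfsg.Agent.FastGrp

/-- Laplace expansion which skips zero entries -/
private noncomputable def detL_a25c3 {R : Type*} [CommRing R] [DecidableEq R] (n : ℕ) : Matrix (Fin n) (Fin n) R → R :=
  @Nat.rec (fun n => Matrix (Fin n) (Fin n) R → R) (fun _ => 1) (fun n ih M =>
    ∑ j : Fin (n + 1), if M 0 j = 0 then 0 else (-1) ^ (j : ℕ) * M 0 j * ih (M.submatrix Fin.succ j.succAbove)) n

private theorem detL_eq_a25c3 {R : Type*} [CommRing R] [DecidableEq R] {n : ℕ} (M : Matrix (Fin n) (Fin n) R) :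
    M.det = detL_a25c3 n M := by
  induction n with
  | zero => exact Matrix.det_fin_zero
  | succ n ih =>
    rw [Matrix.det_succ_row_zero]
    refine Finset.sum_congr rfl fun j _ => ?_
    by_cases h : M 0 j = 0
    · rw [if_pos h, h, mul_zero, zero_mul]
    · rw [if_neg h, ih]
      rfl


/-!
# An element of order `18` in `U₆(2)` (helper559)
-/

set_option autoImplicit false

namespace Cfsg.Agent.H559.Row.USix

open Cfsg Matrix Cfsg.Agent.SporadicA.FieldFour F4 Cfsg.Agent.H852.USixElts

def G18 : M6 := !![z,z,w,z,z,z; o,z,z,z,z,z; z,o,z,z,z,z; z,z,z,z,o,z; z,z,z,o,z,z; z,z,z,z,z,v]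

set_option maxRecDepth 100000

theorem G18_st : st G18 * G18 = 1 := by decide +kernel

theorem G18_det : G18.det = 1 := by (simp only [detL_eq_a25c3]; decide +kernel)

theorem G18_pow : G18 ^ 18 = 1 := by decide +kernel

theorem G18_nine : (G18 ^ 9) 3 4 ≠ 0 := by decide +kernel

theorem G18_six : (G18 ^ 6) 0 0 ≠ (G18 ^ 6) 3 3 := by decide +kernel

def g18 : SU 6 F4 2 := mk G18 G18_st G18_det

theorem order_g18 : orderOf (pr g18) = 18 := by
  apply orderOf_eq_of_pow_and_pow_div_prime (by norm_num)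
  · rw [← map_pow]
    have h1 : g18 ^ 18 = 1 := mat_inj (by
      rw [mat_pow]
      exact G18_pow)
    rw [h1, map_one]
  · intro p hp hp18
    have h1 : p = 2 ∨ p = 3 := by
      have h2 : p ∣ 2 * 3 ^ 2 := by simpa using hp18
      rcases hp.dvd_mul.1 h2 with h3 | h3
      · exact Or.inl ((Nat.prime_dvd_prime_iff_eq hp Nat.prime_two).1 h3)
      · exact Or.inr ((Nat.prime_dvd_prime_iff_eq hp (by norm_num)).1 (hp.dvd_of_dvd_pow h3))
    rcases h1 with rfl | rfl
    · rw [← map_pow]
      refine pr_ne_one 3 4 (by decide) ?_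
      rw [mat_pow]
      exact G18_nine
    · rw [← map_pow]
      intro h
      obtain ⟨c, -, hc⟩ := pr_eq_one h
      rw [mat_pow] at hc
      apply G18_six
      have h2 : G18 ^ 6 = c • (1 : M6) := hc
      have h3 : (G18 ^ 6) 0 0 = c := by
        have := congrFun (congrFun h2 0) 0
        simpa using this
      have h4 : (G18 ^ 6) 3 3 = c := by
        have := congrFun (congrFun h2 3) 3
        simpa using this
      rw [h3, h4]

theorem exists_eighteen {F : Type*} [Field F] [Fintype F] (hF : Fintype.card F = 4) :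
    ∃ x : PSU 6 F 2, orderOf x = 18 := by
  obtain ⟨e⟩ := Cfsg.Agent.SporadicStructure.PsuMatch.psu_iso_of_card (F := F4) (K := F) (by rw [hF]; rfl) 6 2
  exact ⟨e (pr g18), by rw [MulEquiv.orderOf_eq, order_g18]⟩

end Cfsg.Agent.H559.Row.USix
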