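import Cfsg.Agent.H421.Outer
import Cfsg.Agent.BpSpor.Cen
import Mathlib
import Cfsg.Agent.H408.SelfSuz
import Cfsg.Agent.S1694
import Cfsg.Agent.H559.Row.Mathieu
import Cfsg.Agent.H559.SixMain
import Cfsg.Agent.H845.HNSevenA
import Cfsg.Agent.H904.McLCent
import Cfsg.Agent.H403.FDatHS
import Cfsg.Agent.H180.KM11Cube
import Cfsg.Agent.FastGrp
import Cfsg.Agent.Prune
set_option linter.all false

section
prune_inst 0x7f00000000000000000000000000000000000000000000000000000000000000000000000000000000000000000000000000000000000000000000000000000000000000000000000000000000000000003fffffffffffffffffffffffffffbeffbdffffffff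

-- part: H559/Row/SuzFrob
section
set_option linter.all false
open scoped Cfsg.Agent.FastGrp

-- part: H681/IsoFrob
section
/-!
# Isolated primes and element orders (helper681)

* `sylow_frob` : `|S| = a m`, `a ∤ m`, the prime `a` isolated in `S`: a Frobenius subgroup of order `a w` with cyclic
  complement, `w ∣ a - 1`, `m ≡ w (mod a)`;
* `exists_order` : `K` normal in `G`, the prime `a` isolated in `G`, `a ∤ |K|`, `t ∣ |K|` a prime, `S ≤ G ⧸ K` of order
  `a m`, `a ∤ m`: for some `w ∣ a - 1`, `m ≡ w (mod a)`, an element of `G` of order `w t` (if `w ≠ 1`, `t ∤ w`).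
-/

set_option autoImplicit false

namespace Cfsg.Agent.H681.IsoFrob

open Subgroup Cfsg.Agent.H421.Act

/-- **The normalizer of a Sylow subgroup of prime order, the prime isolated.** -/
theorem sylow_frob {S : Type*} [Group S] [Finite S] {a m : ℕ} (ha : a.Prime) (hm : Nat.card S = a * m)
    (ham : ¬ a ∣ m) (hiso : ∀ r : ℕ, r.Prime → r ≠ a → ∀ g : S, orderOf g ≠ a * r) :
    ∃ w : ℕ, w ∣ a - 1 ∧ m ≡ w [MOD a] ∧ ∃ x z : S, orderOf x = a ∧ orderOf z = w ∧
      (∀ y ∈ zpowers x, z * y * z⁻¹ ∈ zpowers x) ∧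
      ∀ i, 0 < i → i < w → ∀ y ∈ zpowers x, z ^ i * y = y * z ^ i → y = 1 := by
  classical
  have hfa : Fact a.Prime := ⟨ha⟩
  obtain ⟨P⟩ : Nonempty (Sylow a S) := inferInstance
  have hm0 : m ≠ 0 := fun h => ham (h ▸ dvd_zero a)
  have hcP : Nat.card P = a := by
    rw [Sylow.card_eq_multiplicity, hm, Nat.factorization_mul ha.ne_zero hm0, Finsupp.add_apply,
      ha.factorization_self, Nat.factorization_eq_zero_of_not_dvd ham, add_zero, pow_one]
  have hcyc : IsCyclic P := isCyclic_of_prime_card hcP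
  have hPcomm : ∀ x ∈ P, ∀ y ∈ P, x * y = y * x := fun x hx y hy =>
    congrArg Subtype.val (isMulCommutative_iff.1 hcyc.isMulCommutative (⟨x, hx⟩ : P) ⟨y, hy⟩)
  -- every nontrivial element generates `P`
  have hgen : ∀ y ∈ (P : Subgroup S), y ≠ 1 → (P : Subgroup S) = zpowers y := by
    intro y hy hy1
    have h1 : orderOf y = a := by
      have h2 : orderOf (⟨y, hy⟩ : P) ∣ a := (_root_.orderOf_dvd_natCard _).trans (dvd_of_eq hcP)
      rw [← Subgroup.orderOf_coe] at h2
      exact ((Nat.dvd_prime ha).1 h2).resolve_left fun h => hy1 (orderOf_eq_one_iff.1 h)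
    symm
    apply Subgroup.eq_of_le_of_card_ge (zpowers_le.2 hy)
    rw [Nat.card_zpowers, h1]
    exact hcP.le
  obtain ⟨q, hq⟩ : ∃ q : P, orderOf q = a := exists_prime_orderOf_dvd_card' (G := P) a (by rw [hcP])
  have hqo : orderOf (q : S) = a := by rw [Subgroup.orderOf_coe, hq]
  have hq1 : (q : S) ≠ 1 := by
    intro h
    rw [h, orderOf_one] at hqo
    exact ha.one_lt.ne hqo
  have hPz : (P : Subgroup S) = zpowers (q : S) := hgen _ q.2 hq1
  let C : Subgroup S := centralizer (P : Set S)
  have hPC : (P : Subgroup S) ≤ C := fun x hx => mem_centralizer_iff.2 fun y hy => hPcomm y hy x hx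
  have hCp : IsPGroup a C := by
    rw [IsPGroup.iff_orderOf]
    intro c
    have h1 : ∀ r : ℕ, r.Prime → r ∣ orderOf c → r = a := by
      intro r hr hrc
      by_contra hne
      have h2 : Commute (q : S) (c : S) := (mem_centralizer_iff.1 c.2 _ q.2)
      obtain ⟨y, hy⟩ := exists_mul_order h2 ha hr (fun h => hne h.symm) (by rw [hqo])
        (by rw [Subgroup.orderOf_coe]; exact hrc)
      exact hiso r hr hne y hy
    exact ⟨_, Nat.eq_prime_pow_of_unique_prime_dvd (orderOf_pos c).ne' fun {d} hd hd' => h1 d hd hd'⟩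
  have hcC : Nat.card C = a := by
    obtain ⟨k, hk⟩ := IsPGroup.iff_card.1 hCp
    have h1 : a ∣ Nat.card C := by
      rw [← hcP]
      exact Subgroup.card_dvd_of_le hPC
    have h2 : Nat.card C ∣ a * m := hm ▸ Subgroup.card_subgroup_dvd_card C
    have h3 : ¬ a ^ 2 ∣ a * m := by
      rw [pow_two]
      intro h
      exact ham (Nat.dvd_of_mul_dvd_mul_left ha.pos h)
    have hk1 : k ≤ 1 := by
      by_contra h
      apply h3
      refine (pow_dvd_pow a (by omega : 2 ≤ k)).trans ?_
      rw [← hk]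
      exact h2
    have hk0 : k ≠ 0 := by
      rintro rfl
      rw [hk, pow_zero] at h1
      exact ha.one_lt.ne' (Nat.dvd_one.1 h1)
    have : k = 1 := by omega
    rw [hk, this, pow_one]
  have hCP : C = (P : Subgroup S) := by
    symm
    apply Subgroup.eq_of_le_of_card_ge hPC
    rw [hcC]
    exact hcP.ge
  let N : Subgroup S := normalizer (P : Set S)
  have hCN : C ≤ N := by
    rw [hCP]
    exact le_normalizer
  let φ : N →* MulAut P := (P : Subgroup S).normalizerMonoidHom
  have hφ : ∀ (n : N) (y : P), ((φ n y : P) : S) = n * y * (n : S)⁻¹ := fun n y => rfl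
  have hker : ∀ n : N, φ n = 1 → (n : S) ∈ C := by
    intro n hn
    rw [mem_centralizer_iff]
    intro y hy
    have h1 := hφ n ⟨y, hy⟩
    rw [hn] at h1
    have h2 : y = n * y * (n : S)⁻¹ := h1
    have h3 : y * n = n * y := by
      conv_lhs => rw [h2]
      group
    exact h3
  have hindex : C.relIndex N = Nat.card φ.range := by
    have h1 : φ.ker.index = Nat.card φ.range := by
      rw [Subgroup.index_ker]
    rw [← h1, normalizerMonoidHom_ker]
    rfl
  -- the cyclic group of automorphisms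
  have hcycA : IsCyclic (MulAut P) := by
    have h1 : IsCyclic (ZMod (Nat.card P))ˣ := by
      rw [hcP]
      infer_instance
    have e := IsCyclic.mulAutMulEquiv P
    exact isCyclic_of_surjective e.symm e.symm.surjective
  have hfinA : Finite (MulAut P) := Finite.of_injective (fun f : MulAut P => (f : P → P)) DFunLike.coe_injective
  obtain ⟨⟨g, n, hn⟩, hg⟩ := IsCyclic.exists_generator (α := φ.range)
  have hgo : orderOf g = Nat.card φ.range := by
    have h1 := orderOf_eq_card_of_forall_mem_zpowers hg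
    rwa [← Subgroup.orderOf_coe] at h1
  set w := Nat.card φ.range with hw
  have hw0 : 0 < w := Nat.card_pos
  have hnw : φ (n ^ w) = 1 := by
    rw [map_pow, hn, ← hgo, pow_orderOf_eq_one]
  have hφpow : ∀ i, φ (n ^ i) = 1 → w ∣ i := by
    intro i hi
    rw [map_pow, hn] at hi
    rw [← hgo]
    exact orderOf_dvd_of_pow_eq_one hi
  have hdw : w ∣ a - 1 := by
    have h1 : Nat.card φ.range ∣ Nat.card (MulAut P) := Subgroup.card_subgroup_dvd_card _
    rw [hcyc.card_mulAut, hcP, Nat.totient_prime ha] at h1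
    exact h1
  have hmw : m ≡ w [MOD a] := by
    have h1 : Nat.card N = a * C.relIndex N := by
      have h3 := Subgroup.relIndex_mul_relIndex ⊥ C N bot_le hCN
      rw [Subgroup.relIndex_bot_left, Subgroup.relIndex_bot_left, hcC] at h3
      exact h3.symm
    have h2 : Nat.card N * Nat.card (Sylow a S) = a * m := by
      rw [Sylow.card_eq_index_normalizer P, Subgroup.card_mul_index, hm]
    rw [h1, mul_assoc] at h2
    have h3 : C.relIndex N * Nat.card (Sylow a S) = m := Nat.eq_of_mul_eq_mul_left ha.pos h2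
    have h4 := (Nat.ModEq.refl (n := a) (C.relIndex N)).mul (card_sylow_modEq_one a S)
    rw [h3, mul_one, hindex] at h4
    exact h4
  refine ⟨w, hdw, hmw, ?_⟩
  rcases Nat.eq_or_lt_of_le (Nat.succ_le_of_lt hw0) with hw1 | hw1
  · refine ⟨q, 1, hqo, by rw [orderOf_one]; exact hw1, ?_, ?_⟩
    · intro y hy
      simpa using hy
    · intro i h0 h1
      omega
  have hnw1 : (n : S) ^ w = 1 := by
    by_contra hne
    have h1 : (n : S) ^ w ∈ (P : Subgroup S) := by
      rw [← hCP]
      have := hker _ hnw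
      rwa [Subgroup.coe_pow] at this
    have h2 := hgen _ h1 hne
    have h3 : φ n = 1 := by
      ext y
      rw [hφ]
      have h4 : (y : S) ∈ zpowers ((n : S) ^ w) := h2 ▸ y.2
      obtain ⟨k, hk⟩ := h4
      have h5 : Commute (n : S) (y : S) := by
        rw [← hk]
        exact ((Commute.refl (n : S)).pow_right w).zpow_right k
      rw [h5.eq, mul_inv_cancel_right]
      rfl
    have h4 := hφpow 1 (by rw [pow_one]; exact h3)
    have := Nat.le_of_dvd one_pos h4
    omega
  have hno : orderOf (n : S) = w := by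
    apply Nat.dvd_antisymm (orderOf_dvd_of_pow_eq_one hnw1)
    apply hφpow
    have h1 : n ^ orderOf (n : S) = 1 := by
      apply Subtype.ext
      rw [Subgroup.coe_pow, pow_orderOf_eq_one]
      rfl
    rw [h1, map_one]
  refine ⟨q, n, hqo, hno, ?_, ?_⟩
  · rw [← hPz]
    intro y hy
    exact (mem_normalizer_iff.1 n.2 _).1 hy
  · rw [← hPz]
    intro i h0 h1 y hy hc
    by_contra hy1
    have h2 := hgen y hy hy1
    have h3 : φ (n ^ i) = 1 := by
      ext v
      rw [hφ]
      have h4 : (v : S) ∈ zpowers y := h2 ▸ v.2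
      obtain ⟨k, hk⟩ := h4
      have h5 : Commute ((n ^ i : N) : S) (v : S) := by
        rw [← hk, Subgroup.coe_pow]
        exact Commute.zpow_right hc k
      rw [h5.eq, mul_inv_cancel_right]
      rfl
    have h4 := Nat.le_of_dvd h0 (hφpow i h3)
    omega

/-- **An isolated prime and the Frobenius complement of its Sylow normalizer acting on the solvable radical.** -/
theorem exists_order {G : Type*} [Group G] [Finite G] (K : Subgroup G) [K.Normal] {a t m : ℕ} (ha : a.Prime)
    (ht : t.Prime) (haK : ¬ a ∣ Nat.card K) (htK : t ∣ Nat.card K)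
    (hiso : ∀ r : ℕ, r.Prime → r ≠ a → ∀ g : G, orderOf g ≠ a * r) (S : Subgroup (G ⧸ K))
    (hm : Nat.card S = a * m) (ham : ¬ a ∣ m) :
    ∃ w : ℕ, w ∣ a - 1 ∧ m ≡ w [MOD a] ∧ (w.Coprime t → ∃ g : G, orderOf g = w * t) := by
  classical
  have hfa : Fact a.Prime := ⟨ha⟩
  have hta : t ≠ a := by
    rintro rfl
    exact haK htK
  obtain ⟨P⟩ : Nonempty (Sylow t K) := inferInstance
  obtain ⟨hfr, hZne, hZc, hZn, hZo⟩ := exists_center K ht htK P
  set PG : Subgroup G := (P : Subgroup K).map K.subtype with hPGdef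
  set N : Subgroup G := normalizer (PG : Set G) with hNdef
  set ZP : Subgroup G := (center PG).map PG.subtype with hZPdef
  let H : Subgroup G := N ⊓ S.comap (QuotientGroup.mk' K)
  have hHZ : H ≤ normalizer (ZP : Set G) := inf_le_left.trans hZn
  let φ : H →* G ⧸ K := (QuotientGroup.mk' K).comp H.subtype
  have hrange : φ.range = S := by
    apply le_antisymm
    · rintro _ ⟨h, rfl⟩
      exact h.2.2
    · intro s hs
      obtain ⟨g, rfl⟩ := QuotientGroup.mk'_surjective K s
      have hg : g ∈ N ⊔ K := by rw [hfr]; exact mem_top g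
      obtain ⟨n, hn, k, hk, rfl⟩ := Subgroup.mem_sup_of_normal_right.1 hg
      have hk1 : QuotientGroup.mk' K k = 1 := (QuotientGroup.eq_one_iff k).2 hk
      have h1 : QuotientGroup.mk' K (n * k) = QuotientGroup.mk' K n := by
        rw [map_mul, hk1, mul_one]
      rw [h1] at hs ⊢
      exact ⟨⟨n, hn, hs⟩, rfl⟩
  have hcard : Nat.card H = a * (Nat.card φ.ker * m) := by
    have h1 := Subgroup.card_mul_index φ.ker
    rw [Subgroup.index_ker, hrange, hm] at h1
    rw [← h1]
    ring
  have hker : ¬ a ∣ Nat.card φ.ker := by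
    intro h
    apply haK
    refine h.trans ?_
    have h1 : φ.ker.map H.subtype ≤ K := by
      rintro _ ⟨n, hn, rfl⟩
      exact (QuotientGroup.eq_one_iff _).1 (MonoidHom.mem_ker.1 hn)
    have h2 : Nat.card (φ.ker.map H.subtype) = Nat.card φ.ker :=
      Subgroup.card_map_of_injective H.subtype_injective
    rw [← h2]
    exact Subgroup.card_dvd_of_le h1
  have ham' : ¬ a ∣ Nat.card φ.ker * m := by
    intro h
    rcases ha.dvd_mul.1 h with h | h
    · exact hker h
    · exact ham h
  have hisoH : ∀ r : ℕ, r.Prime → r ≠ a → ∀ g : H, orderOf g ≠ a * r := by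
    intro r hr hne g hg
    exact hiso r hr hne g (by rw [Subgroup.orderOf_coe, hg])
  obtain ⟨w, hw1, hw2, x, z, hx, hz, hn, hf⟩ := sylow_frob ha hcard ham' hisoH
  have hfix : Nat.card φ.ker ≡ 1 [MOD a] := by
    have h1 := Cfsg.Agent.BpSpor.Cen.card_fix (N := φ.ker) hx (fun n hn => φ.normal_ker.conj_mem n hn x)
    have h2 : φ.ker ⊓ centralizer ({x} : Set H) = ⊥ := by
      rw [eq_bot_iff]
      rintro y ⟨hy, hyc⟩
      rw [Subgroup.mem_bot]
      by_contra hy1
      have hc : Commute x y := (Subgroup.mem_centralizer_singleton_iff.1 hyc).symm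
      have hy1' : orderOf y ≠ 1 := fun h => hy1 (orderOf_eq_one_iff.1 h)
      obtain ⟨r, hr, hry⟩ := Nat.exists_prime_and_dvd hy1'
      have hra : r ≠ a := by
        rintro rfl
        apply hker
        refine hry.trans ?_
        rw [← Subgroup.orderOf_mk y hy]
        exact orderOf_dvd_natCard _
      obtain ⟨g, hg⟩ := exists_mul_order hc ha hr hra.symm (by rw [hx]) hry
      exact hisoH r hr hra g hg
    rw [h2, Subgroup.card_bot] at h1
    exact h1
  refine ⟨w, hw1, ?_, ?_⟩
  · have h1 := hfix.mul_right m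
    rw [one_mul] at h1
    exact h1.symm.trans hw2
  intro hwt
  by_contra hno
  have hw0 : 0 < w := by
    rcases Nat.eq_zero_or_pos w with rfl | h
    · exfalso
      have h1 := Nat.eq_zero_of_zero_dvd hw1
      have := ha.two_le
      omega
    · exact h
  let cg : CommGroup ZP := { (inferInstance : Group ZP) with mul_comm := isMulCommutative_iff.1 hZc }
  let ρ : H →* AddMonoid.End (Additive ZP) := (toEnd ZP).comp
    ((ZP.normalizerMonoidHom).comp (Subgroup.inclusion hHZ))
  have hρ : ∀ (h : H) (v : Additive ZP), ((Additive.toMul (ρ h v) : ZP) : G) =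
      h * (Additive.toMul v : ZP) * (h : G)⁻¹ := fun h v => rfl
  have hcomm : ∀ (h : H) (v : Additive ZP), ρ h v = v → Commute (h : G) ((Additive.toMul v : ZP) : G) := by
    intro h v hv
    have h1 := hρ h v
    rw [hv] at h1
    have h2 : ((Additive.toMul v : ZP) : G) * h = h * (Additive.toMul v : ZP) := by
      conv_lhs => rw [h1]
      group
    exact h2.symm
  have hcardx : Nat.card (zpowers x) = a := by rw [Nat.card_zpowers, hx]
  have key := frob_trivial ρ (zpowers x) z w hw0 (by rw [← hz, pow_orderOf_eq_one]) hn hf ?_ ?_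
  · obtain ⟨⟨v, hv⟩, hv1⟩ := Subgroup.ne_bot_iff_exists_ne_one.1 hZne
    have hv1' : v ≠ 1 := fun h => hv1 (Subtype.ext h)
    have h1 := hcomm x (Additive.ofMul ⟨v, hv⟩) (key x (mem_zpowers x) _)
    obtain ⟨g, hg⟩ := exists_mul_order h1 ha ht hta.symm (by rw [Subgroup.orderOf_coe, hx]) (hZo v hv hv1')
    exact hiso t ht hta g hg
  · intro v hv
    by_contra hv0
    have h1 := hcomm z v hv
    set u : G := ((Additive.toMul v : ZP) : G) with hu
    have hu1 : u ≠ 1 := by
      intro h
      apply hv0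
      have h2 : (Additive.toMul v : ZP) = 1 := Subtype.ext h
      exact h2
    obtain ⟨k, hk⟩ := exists_pow_prime u (hZo u (Additive.toMul v).2 hu1)
    apply hno
    refine ⟨z * u ^ k, ?_⟩
    rw [(h1.pow_right k).orderOf_mul_eq_mul_orderOf_of_coprime, hk, Subgroup.orderOf_coe, hz]
    rw [hk, Subgroup.orderOf_coe, hz]
    exact hwt
  · intro v hv
    by_contra hv0
    rw [hcardx] at hv
    set u : G := ((Additive.toMul v : ZP) : G) with hu
    have hu1 : u ≠ 1 := by
      intro h
      apply hv0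
      have h2 : (Additive.toMul v : ZP) = 1 := Subtype.ext h
      exact h2
    have h2 : u ^ a = 1 := congrArg (fun y : Additive ZP => ((Additive.toMul y : ZP) : G)) hv
    have h3 := (hZo u (Additive.toMul v).2 hu1).trans (orderOf_dvd_of_pow_eq_one h2)
    exact hta ((Nat.prime_dvd_prime_iff_eq ht ha).1 h3)

end Cfsg.Agent.H681.IsoFrob
end

-- part: H559/Row/SuzFrob
section
/-!
# The Suzuki sporadic group: `11 : 5` (helper559, for helper361)

* `clean_of_self` : the Sylow `r`-subgroups have order `r` and one is self-centralizing: elements of order divisible by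
  `r` have order `r`;
* `suz_frob`, `suz_no` : `11 : 5` in `Suz`, and no elements of order `11 k`, `k > 1`.
-/

set_option autoImplicit false

namespace Cfsg.Agent.H559.Row.SuzFrob

open Subgroup Cfsg

theorem clean_of_self {G : Type*} [Group G] [Finite G] {r : ℕ} (hr : r.Prime) (h2 : ¬ r ^ 2 ∣ Nat.card G)
    (h : Cfsg.Agent.H408.SporEng.Self r G) : ∀ g : G, r ∣ orderOf g → g ^ r = 1 := by
  intro g hg
  have hrf : Fact r.Prime := ⟨hr⟩
  obtain ⟨x0, hx0, hc⟩ := h
  obtain ⟨k, hk⟩ := hg
  have hk0 : k ≠ 0 := by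
    rintro rfl
    rw [mul_zero] at hk
    exact (orderOf_pos g).ne' hk
  have hx : orderOf (g ^ k) = r := by
    rw [orderOf_pow_of_dvd hk0 (by rw [hk]; exact dvd_mul_left k r), hk, Nat.mul_div_cancel _ (Nat.pos_of_ne_zero hk0)]
  have hcard : ∀ P : Sylow r G, Nat.card (P : Subgroup G) ∣ r := by
    intro P
    obtain ⟨n, hn⟩ := IsPGroup.iff_card.1 P.isPGroup'
    have hn2 : n < 2 := by
      by_contra hcon
      exact h2 ((pow_dvd_pow r (not_lt.1 hcon)).trans (hn ▸ Subgroup.card_subgroup_dvd_card _))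
    rw [hn]
    calc r ^ n ∣ r ^ 1 := pow_dvd_pow r (by omega)
      _ = r := pow_one r
  have hz : ∀ (P : Sylow r G) (y : G), orderOf y = r → y ∈ (P : Subgroup G) → (P : Subgroup G) = zpowers y := by
    intro P y hy hyP
    symm
    apply Subgroup.eq_of_le_of_card_ge (zpowers_le.2 hyP)
    rw [Nat.card_zpowers, hy]
    exact Nat.le_of_dvd hr.pos (hcard P)
  have hp : ∀ y : G, orderOf y = r → ∃ P : Sylow r G, y ∈ (P : Subgroup G) := by
    intro y hy
    have h1 : IsPGroup r (zpowers y) := IsPGroup.of_card (n := 1) (by rw [Nat.card_zpowers, hy, pow_one])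
    obtain ⟨P, hP⟩ := h1.exists_le_sylow
    exact ⟨P, hP (mem_zpowers y)⟩
  obtain ⟨P, hP⟩ := hp _ hx
  obtain ⟨Q, hQ⟩ := hp _ hx0
  obtain ⟨c, hc'⟩ := MulAction.exists_smul_eq G P Q
  have h3 : c * (g ^ k) * c⁻¹ ∈ (Q : Subgroup G) := by
    rw [← hc', Sylow.coe_subgroup_smul]
    exact ⟨g ^ k, hP, rfl⟩
  have ho : orderOf (c * (g ^ k) * c⁻¹) = r := by
    rw [← hx]
    exact orderOf_injective (MulAut.conj c).toMonoidHom (MulAut.conj c).injective (g ^ k)
  have h4 : zpowers (c * (g ^ k) * c⁻¹) = zpowers x0 := (hz Q _ ho h3).symm.trans (hz Q _ hx0 hQ)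
  have h5 : x0 ∈ zpowers (c * (g ^ k) * c⁻¹) := by rw [h4]; exact mem_zpowers x0
  obtain ⟨j, hj⟩ := mem_zpowers_iff.1 h5
  have h6 : Commute (c * g * c⁻¹) x0 := by
    rw [← hj]
    apply Commute.zpow_right
    rw [← conj_pow]
    exact (Commute.refl _).pow_right k
  have h7 : orderOf (⟨c * g * c⁻¹, mem_centralizer_singleton_iff.2 h6.eq⟩ : centralizer ({x0} : Set G)) ∣ r := by
    rw [← hc]
    exact orderOf_dvd_natCard _
  rw [Subgroup.orderOf_mk] at h7
  have h8 : orderOf (c * g * c⁻¹) = orderOf g :=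
    orderOf_injective (MulAut.conj c).toMonoidHom (MulAut.conj c).injective g
  rw [h8] at h7
  exact orderOf_dvd_iff_pow_eq_one.1 h7

theorem clean {S : Type*} [Group S] [Finite S] (h : Spor.IsoSuz S) : ∀ g : S, 11 ∣ orderOf g → g ^ 11 = 1 := by
  obtain ⟨e⟩ := id h
  have hs : IsSimpleGroup Spor.Suz := S1694.result.1
  have hS : IsSimpleGroup S := isSimpleGroup_congr_of e hs
  have hN := NotCT.Orders.suz h
  exact clean_of_self (by norm_num) (by rw [hN]; norm_num) (Cfsg.Agent.H408.SelfSuz.suz h)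
where
  isSimpleGroup_congr_of {S T : Type _} [Group S] [Group T] (e : S ≃* T) (hs : IsSimpleGroup T) : IsSimpleGroup S := by
    have := hs
    have : Nontrivial S := e.toEquiv.nontrivial
    exact IsSimpleGroup.isSimpleGroup_of_surjective e.symm.toMonoidHom e.symm.surjective

/-- no elements of order `11 k`, `k > 1` -/
theorem suz_no {S : Type*} [Group S] [Finite S] (h : Spor.IsoSuz S) {k : ℕ} (hk : 1 < k) (g : S) : orderOf g ≠ 11 * k := by
  intro hg
  have h1 := clean h g (by rw [hg]; exact dvd_mul_right _ _)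
  have h2 := Nat.le_of_dvd (by norm_num) (orderOf_dvd_of_pow_eq_one h1)
  omega

/-- `11 : 10`, hence `11 : 5`, in `Suz` -/
theorem suz_frob_ten {S : Type*} [Group S] [Finite S] (h : Spor.IsoSuz S) :
    ∃ x z : S, orderOf x = 11 ∧ orderOf z = 10 ∧ (∀ y ∈ zpowers x, z * y * z⁻¹ ∈ zpowers x) ∧
      ∀ i, 0 < i → i < 10 → ∀ y ∈ zpowers x, z ^ i * y = y * z ^ i → y = 1 := by
  have hN := NotCT.Orders.suz h
  obtain ⟨w, hw1, hw2, x, z, hx, hz, h1, h2⟩ := Cfsg.Agent.H681.IsoFrob.sylow_frob (S := S) (a := 11) (m := 40758681600)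
    (by norm_num) (by rw [hN]) (by norm_num) (fun r hr hra g => suz_no h hr.one_lt g)
  have hw : w = 10 := by
    have h3 : w ∣ 10 := hw1
    have h4 : w ≤ 10 := Nat.le_of_dvd (by norm_num) h3
    have h5 : 40758681600 % 11 = w % 11 := hw2
    norm_num at h5
    omega
  subst hw
  exact ⟨x, z, hx, hz, h1, h2⟩

end Cfsg.Agent.H559.Row.SuzFrob
end
end

-- part: H559/Row/Orders
section
set_option linter.all false
open scoped Cfsg.Agent.FastGrp

/-!
# Rows 11 and 12: orders of elements of the sporadic groups (helper559)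
-/

set_option autoImplicit false
set_option linter.unusedSectionVars false

namespace Cfsg.Agent.H559.Row

open Subgroup Cfsg

universe u

variable {S : Type u} [Group S]

theorem no_of_cent [Finite S] {p q c : ℕ} (hp : 0 < p) (hq : 0 < q)
    (h : ∀ y : S, orderOf y = p → Nat.card (centralizer (zpowers y : Set S)) ∣ c) (hc : ¬ p * q ∣ c) :
    No (p * q) S := by
  apply no_of_ne
  intro g hg
  obtain ⟨ox, -, -⟩ := exists_pq hp hq hg
  have h1 : g ∈ centralizer (zpowers (g ^ q) : Set S) := by
    rw [mem_centralizer_iff]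
    rintro y hy
    obtain ⟨k, rfl⟩ := mem_zpowers_iff.1 (SetLike.mem_coe.1 hy)
    exact (((Commute.refl g).pow_left q).zpow_left k).eq
  apply hc
  refine dvd_trans ?_ (h _ ox)
  have h2 := orderOf_dvd_natCard (⟨g, h1⟩ : centralizer (zpowers (g ^ q) : Set S))
  rwa [Subgroup.orderOf_mk, hg] at h2

theorem centralizer_zpowers_eq (y : S) : centralizer (zpowers y : Set S) = centralizer ({y} : Set S) := by
  ext g
  rw [mem_centralizer_iff, mem_centralizer_singleton_iff]
  constructor
  · intro h
    exact (h y (mem_zpowers y)).symm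
  · intro h z hz
    obtain ⟨k, rfl⟩ := mem_zpowers_iff.1 (SetLike.mem_coe.1 hz)
    exact ((show Commute y g from h.symm).zpow_left k).eq

theorem hs_cent [Finite S] (h : Spor.IsoHS S) : ∀ y : S, orderOf y = 7 → Nat.card (centralizer (zpowers y : Set S)) ∣ 7 := by
  intro y hy
  rw [centralizer_zpowers_eq, Cfsg.Agent.H845.HNSevenA.hs_seven h hy]

theorem hs_fourteen [Finite S] (h : Spor.IsoHS S) : No 14 S :=
  no_of_cent (p := 7) (q := 2) (by norm_num) (by norm_num) (hs_cent h) (by norm_num)

theorem hs_twentyone [Finite S] (h : Spor.IsoHS S) : No 21 S :=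
  no_of_cent (p := 7) (q := 3) (by norm_num) (by norm_num) (hs_cent h) (by norm_num)

theorem hs_thirtyfive [Finite S] (h : Spor.IsoHS S) : No 35 S :=
  no_of_cent (p := 7) (q := 5) (by norm_num) (by norm_num) (hs_cent h) (by norm_num)

theorem hs_nine [Finite S] (h : Spor.IsoHS S) (hc : Nat.card S = 44352000) : No 9 S := by
  obtain ⟨a, b, ha, hb, hab, ha1, hb1, hne, hne2⟩ := (Cfsg.Agent.H403.HSD.fdat h).ab
  exact no_of_ne (SixMain.no_nine (by rw [hc]; norm_num) ha hb hab ha1 hb1 hne.symm hne2.symm)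

theorem mcl_cent [Finite S] (h : Spor.IsoMcL S) :
    ∀ y : S, orderOf y = 7 → Nat.card (centralizer (zpowers y : Set S)) ∣ 14 := by
  intro y hy
  exact (Cfsg.Agent.H904.McLCent.seven h (zpowers y) (by rw [Nat.card_zpowers, hy])).1

theorem mcl_twentyone [Finite S] (h : Spor.IsoMcL S) : No 21 S :=
  no_of_cent (p := 7) (q := 3) (by norm_num) (by norm_num) (mcl_cent h) (by norm_num)

theorem mcl_thirtyfive [Finite S] (h : Spor.IsoMcL S) : No 35 S :=
  no_of_cent (p := 7) (q := 5) (by norm_num) (by norm_num) (mcl_cent h) (by norm_num)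

theorem no_of_clean [Finite S] {r k : ℕ} (hr : 0 < r) (h : ∀ x : S, r ∣ orderOf x → x ^ r = 1) (hk : 1 < k) :
    No (r * k) S := by
  intro x hx
  have h1 := orderOf_dvd_of_pow_eq_one (h x ((dvd_mul_right r k).trans hx))
  have h2 := hx.trans h1
  have h3 := Nat.le_of_dvd hr h2
  have h4 : r * 1 < r * k := Nat.mul_lt_mul_of_pos_left hk hr
  omega

theorem no_of_card [Finite S] {k : ℕ} (h : ¬ k ∣ Nat.card S) : No k S := fun x hx => h (hx.trans (orderOf_dvd_natCard x))

theorem m11_nine [Finite S] (h : Spor.IsoM11 S) : No 9 S := by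
  apply no_of_ne
  intro g hg
  have := Cfsg.Agent.H180.KM11.orders h g
  rw [hg] at this
  simp at this

/-- `30` is an order in `McL` -/
theorem mcl_thirty [Finite S] (h : Spor.IsoMcL S) : ∃ x : S, orderOf x = 30 := by
  obtain ⟨z, u', f, hz, hu, hf, hzu, hzf, huf, -⟩ := Cfsg.Agent.CpAutLy.McLElt.exists_data h
  have c1 : Commute z u' := hzu
  have h6 : orderOf (z * u') = 6 := by
    rw [c1.orderOf_mul_eq_mul_orderOf_of_coprime (by rw [hz, hu]; norm_num), hz, hu]
  have c2 : Commute (z * u') f := (show Commute z f from hzf).mul_left huf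
  refine ⟨z * u' * f, ?_⟩
  rw [c2.orderOf_mul_eq_mul_orderOf_of_coprime (by rw [h6, hf]; norm_num), h6, hf]

end Cfsg.Agent.H559.Row
end
end
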